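import Cfsg.Agent.H133.Ore.Tools
import Cfsg.Agent.H30.OZ.HeMin
import Cfsg.Agent.H828.KillHe
import Cfsg.Agent.H664.Eight.Base
import Cfsg.Agent.H450.S8.Core
import Cfsg.Agent.H498.SporOut

/-!
# S4908, `He`: the numerical facts on the degrees (helper281)

`num` : a degree of `He` divides `|He|`, is `1` or at least `42`, and is `0, ±1, ±8` modulo `17`;
`index_le` : `|Out| ≤ 2`.
-/

set_option autoImplicit false

open Cfsg Subgroup

namespace Cfsg.Agent.H281.S8.He

open Cfsg.Agent.H653.Sieve Cfsg.Agent.H651.Two Cfsg.Agent.Characters.Core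
open Cfsg.Agent.H511.Ore (MinDeg)
open Cfsg.Agent.H133.Ore

def c17 : CD := ⟨17, 1, 8, 2, [(0, 0), (1, 2), (8, -1), (9, 1), (16, -2)], 2, true⟩

theorem ok : c17.ok 4030387200 = true := by decide +kernel

theorem simple : IsSimpleGroup Spor.He := Cfsg.Agent.S1695.result.1

theorem card : Nat.card Spor.He = 4030387200 := Cfsg.Agent.S1695.result.2

theorem fin : Finite Spor.He := Nat.finite_of_card_ne_zero (by rw [card]; norm_num)

theorem not_comm : ¬ IsMulCommutative Spor.He := by
  intro hc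
  have := simple
  have := fin
  let _ : CommGroup Spor.He := { (inferInstance : Group Spor.He) with mul_comm := hc.is_comm.comm }
  have h : (Nat.card Spor.He).Prime := IsSimpleGroup.prime_card
  rw [card] at h
  norm_num at h

theorem minDeg : MinDeg Spor.He 42 := by
  have := simple
  have := fin
  exact minDeg_of_rep not_comm H30.OZ.HeMin.minDeg

theorem has : c17.Has Spor.He :=
  has_of_eq (d := c17) (by norm_num [c17]) H828.KillHe.order17 H828.KillHe.cent17

theorem deg {d : ℕ} (hd : d ∈ charDegrees Spor.He) :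
    d ∣ 4030387200 ∧ (d = 1 ∨ 42 ≤ d) ∧
      (d % 17 = 0 ∨ d % 17 = 1 ∨ d % 17 = 8 ∨ d % 17 = 9 ∨ d % 17 = 16) := by
  obtain ⟨χ, rfl⟩ := hd
  have := simple
  have := fin
  refine ⟨card ▸ H511.Ore.charDegree_dvd χ, ?_, ?_⟩
  · by_cases h : (χ : Spor.He → ℂ) = 1
    · left
      rw [h]
      simp [charDegree]
    · exact Or.inr (minDeg χ h)
  · have h := H511.Ore.res_of_has not_comm card has ok χ
    simpa [c17, or_assoc] using h

theorem degX {X : Type*} [Group X] (hX : Spor.IsoHe X) {d : ℕ} (hd : d ∈ charDegrees X) :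
    d ∣ 4030387200 ∧ (d = 1 ∨ 42 ≤ d) ∧
      (d % 17 = 0 ∨ d % 17 = 1 ∨ d % 17 = 8 ∨ d % 17 = 9 ∨ d % 17 = 16) := by
  obtain ⟨e⟩ := hX
  exact deg (H664.Eight.charDegrees_subset e.symm hd)

theorem num {X : Type*} [Group X] (hX : Spor.IsoHe X) :
    H450.S8.Num (charDegrees X) 4030387200 (H450.S8.okDeg 42 [(17, 8)]) where
  pos := by norm_num
  dvd hd := (degX hX hd).1
  ok {d} hd := by
    obtain ⟨-, h1, h2⟩ := degX hX hd
    rw [H450.S8.okDeg, Bool.and_eq_true]
    refine ⟨?_, ?_⟩
    · rw [Bool.or_eq_true, beq_iff_eq, decide_eq_true_eq]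
      exact h1
    · rw [List.all_eq_true]
      intro x hx
      rw [List.mem_singleton] at hx
      subst hx
      rcases h2 with h | h | h | h | h <;> rw [h] <;> decide

theorem index_le {X : Type*} [Group X] (hX : Spor.IsoHe X) : (MulAut.conj : X →* MulAut X).range.index ≤ 2 := by
  obtain ⟨e⟩ := hX
  rw [H498.SporOut.index_congr e]
  exact Cfsg.Agent.S2075.result.le

end Cfsg.Agent.H281.S8.He
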